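import Cfsg.Agent.H964.Rg.Slo
import Cfsg.Agent.H522.Rg.PolF

/-!
# S3691-E (stub file 4): `plus_two_a` (helper858)
-/

set_option autoImplicit false
set_option linter.unusedSectionVars false

namespace Cfsg.Agent.H858.Rg

open Module QuadraticMap Cfsg Cfsg.Geo Cfsg.Agent.LieClassical.OrthCore Cfsg.Agent.LieClassical.OrthTrans
  Cfsg.Agent.H454.Reg Cfsg.Agent.H884.El Cfsg.Agent.H955 Cfsg.Agent.H954.TSing Cfsg.Agent.H193.Dg Cfsg.Agent.H851.Dg
  Cfsg.Agent.H449.Reg Cfsg.Agent.H964.Rg
open Cfsg.Agent.H951 (fx cm Inv)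
open Cfsg.Agent.H278.Cov (Red Ext Num)
open Cfsg.Agent.H522.Rg (o_not_two_odd sp_not_two_odd E_dvd)
open scoped MatrixGroups Matrix

universe u v

section plane

variable {F : Type u} [Field F] {V : Type v} [AddCommGroup V] [Module F V] {Q : QuadraticForm F V}

/-- a hyperbolic pair spans a space of dimension two -/
theorem span_hyp {x y : V} (h : Hyp Q x y) (hd : finrank F V = 2) (u : V) : ∃ a b : F, a • x + b • y = u := by
  have hli : LinearIndependent F ![x, y] := by
    refine LinearIndependent.pair_iff.2 fun s t hst => ?_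
    have h1 : polar Q x (s • x + t • y) = 0 := by rw [hst, polar_zero_right]
    have h2 : polar Q y (s • x + t • y) = 0 := by rw [hst, polar_zero_right]
    rw [polar_add_right, polar_smul_right, polar_smul_right, h.polar_left, h.pair] at h1
    rw [polar_add_right, polar_smul_right, polar_smul_right, h.polar_right, h.pair'] at h2
    simp only [smul_eq_mul, mul_zero, mul_one, zero_add, add_zero] at h1 h2
    exact ⟨h2, h1⟩
  have h3 := hli.span_eq_top_of_card_eq_finrank (by rw [hd, Fintype.card_fin])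
  have h4 : u ∈ Submodule.span F (Set.range ![x, y]) := by rw [h3]; trivial
  rw [Matrix.range_cons, Matrix.range_cons, Matrix.range_empty, Set.union_empty, Set.singleton_union] at h4
  exact Submodule.mem_span_pair.1 h4

/-- a plane of plus type is spanned by a hyperbolic pair -/
theorem exists_hyp_of_plus {U : Submodule F V} (hd : finrank F U = 2) (hn : Nondeg (res Q U)) (hU : IsPlus (res Q U)) :
    ∃ a b : V, Hyp Q a b ∧ ∀ s ∈ U, ∃ c d : F, c • a + d • b = s := by
  obtain ⟨W, hW, hWd⟩ := hU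
  have hW0 : W ≠ ⊥ := by
    rintro rfl
    rw [finrank_bot, hd] at hWd
    omega
  obtain ⟨w, hw, hw0⟩ := Submodule.exists_mem_ne_zero_of_ne_bot hW0
  obtain ⟨b, hb⟩ := Cfsg.Agent.LieClassical.OrthTrans.exists_hyp hn (hW w hw) hw0
  refine ⟨w, b, ⟨hb.left, hb.right, hb.pair⟩, fun s hs => ?_⟩
  obtain ⟨c, d, hcd⟩ := span_hyp hb hd ⟨s, hs⟩
  exact ⟨c, d, congrArg Subtype.val hcd⟩

/-- an image of a hyperbolic plane is perpendicular to the perp of a large nondegenerate space -/
theorem exists_perp_image [Finite F] [FiniteDimensional F V] (hG : Good Q) {S C : Submodule F V} (hd : finrank F S = 2)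
    (hn : Nondeg (res Q S)) (hS : IsPlus (res Q S)) (hC : Nondeg (res Q C)) (h5 : 5 ≤ finrank F C) :
    ∃ g ∈ E Q, ∀ s ∈ S, g s ∈ C := by
  obtain ⟨a, b, hab, hsp⟩ := exists_hyp_of_plus hd hn hS
  obtain ⟨c, d, hcd⟩ := (LieClassical.OrthFinite.good_of_finite hC h5).exists_hyp
  have hcd' : Hyp Q (c : V) (d : V) := ⟨hcd.left, hcd.right, hcd.pair⟩
  obtain ⟨g, hg, h1, h2⟩ := hG.trans_hyp hab hcd'
  refine ⟨g, hg, fun s hs => ?_⟩
  obtain ⟨k, l, rfl⟩ := hsp s hs
  rw [map_add, map_smul, map_smul, h1, h2]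
  exact C.add_mem (C.smul_mem _ c.2) (C.smul_mem _ d.2)

end plane

section main

variable {ι : Type} [Fintype ι] [DecidableEq ι] {F : Type v} [Field F] [Fintype F] {Q : QuadraticForm F (ι → F)}

theorem finrank_one_span {S : Submodule F (ι → F)} (h : finrank F S = 1) : ∃ v ∈ S, v ≠ 0 ∧ S = F ∙ v := by
  obtain ⟨v, hv0, hspan⟩ := finrank_eq_one_iff'.1 h
  refine ⟨v, v.2, fun h0 => hv0 (Subtype.ext h0), le_antisymm ?_ ((Submodule.span_singleton_le_iff_mem _ _).2 v.2)⟩
  intro w hw
  obtain ⟨c, hc⟩ := hspan ⟨w, hw⟩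
  exact Submodule.mem_span_singleton.2 ⟨c, congrArg Subtype.val hc⟩

variable {G : Type u} [Group G] [Finite G] {T : Subgroup G} [T.Normal] {hG : Good Q} {eT : T ≃* POmega F (⇑Q)}
  {hI : Ind (eP hG eT)} {X Y : Subgroup G} {p f m N : ℕ}

/-- not both factors are reducible -/
theorem no_both_red (h : Cx hI X Y p f m N) (hm : 6 ≤ m) (hP : IsPlus Q) {r2 t : ℕ}
    (hr2 : PP (Nat.card F) (2 * m - 2) r2) (ho1 : Odd (m - 1)) (ht : PP (Nat.card F) (m - 1) t) {S : Submodule F (ι → F)} (hS0 : S ≠ ⊥)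
    (hSY : ∀ y ∈ Y, act hI y S = S) {y : GL ι F} (hyiso : Iso Q (lin y) t) (hy1 : y ≠ 1)
    (hSy : S ≤ fx (lin y)) (hX2 : r2 ∣ Nat.card (preG eT X)) : ¬ Red (preG eT X) := by
  intro hred
  have hn := h.dim
  have hfin : finrank F (ι → F) = 2 * m := h.finrank_V
  obtain ⟨x, hx, hxiso, hxr, hx1⟩ := exists_elt (Q := Q) (preG_le (eT := eT) (X := X)) hr2 (by omega) hX2
  obtain ⟨S', hM, hSx⟩ := exists_mx hI hr2 (by omega) (by omega) hx hxr hx1 hred
  have hev : Even (2 * m - 2) := ⟨m - 1, by omega⟩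
  obtain ⟨hcm, hcmP⟩ := hxiso.even_case hG.nondeg (lin_ne_one hx1) hr2 hev (by omega)
  have hadd := hxiso.finrank_add
  have hfx : finrank F ↥(fx (lin x)) = 2 := by omega
  have hfxP : ¬ IsPlus (res Q (fx (lin x))) := by
    intro h3
    have h5 := (hxiso.isPlus_fx hG.nondeg (by rw [hfin]; exact even_two_mul m) (by rw [hcm]; exact hev)).1 hP
    exact hcmP (h5.2 h3)
  obtain ⟨hycm, hyP, -⟩ := hyiso.odd_case hG.nondeg (lin_ne_one hy1) ht ho1 (by omega)
  have hyadd := hyiso.finrank_add
  have hyfx : finrank F ↥(fx (lin y)) = 2 := by omega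
  have hyfxP : IsPlus (res Q (fx (lin y))) := by
    have h5 := (hyiso.isPlus_fx hG.nondeg (by rw [hfin]; exact even_two_mul m) (by rw [hycm]; exact even_two_mul _)).1 hP
    exact h5.1 hyP
  have hncx := nondeg_cm hG.nondeg hxiso.iso hxiso.ne0 hxiso.pow
  have hncy := nondeg_cm hG.nondeg hyiso.iso hyiso.ne0 hyiso.pow
  have hS'0 : finrank F S' ≠ 0 := fun h0 => hM.ne (Submodule.finrank_eq_zero.1 h0)
  have hS'2 := Submodule.finrank_mono hSx
  have hS0' : finrank F S ≠ 0 := fun h0 => hS0 (Submodule.finrank_eq_zero.1 h0)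
  have hS2 := Submodule.finrank_mono hSy
  by_cases h1 : finrank F S' = 1
  · -- `X` fixes a point
    obtain ⟨v, hv, hv0, rfl⟩ := finrank_one_span h1
    obtain ⟨w, hw, hw0, hwv⟩ := exists_norm hncy (by omega) (Q v)
    exact no_common hG hI h.fac hv0 hM.fix hS0 hSY hw0 hwv fun s hs => polar_fx_cm hG.nondeg hyiso (hSy hs) hw
  by_cases h2 : finrank F S = 1
  · -- `Y` fixes a point
    obtain ⟨v, hv, hv0, rfl⟩ := finrank_one_span h2
    obtain ⟨w, hw, hw0, hwv⟩ := exists_norm hncx (by omega) (Q v)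
    exact no_common hG hI h.fac.symm hv0 hSY hM.ne hM.fix hw0 hwv fun s hs => polar_fx_cm hG.nondeg hxiso (hSx hs) hw
  · have h3 : S = fx (lin y) := Submodule.eq_of_le_of_finrank_eq hSy (by omega)
    obtain ⟨g, hg, hgs⟩ := exists_perp_image hG (S := S) (C := cm (lin x)) (by rw [h3]; exact hyfx)
      (by rw [h3]; exact nondeg_fx hG.nondeg hyiso.iso hyiso.ne0 hyiso.pow) (by rw [h3]; exact hyfxP) hncx (by omega)
    refine no_common' hG hI h.fac hM.ne hM.fix hS0 hSY ⟨g, hg, fun s hs q hq => ?_⟩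
    rw [polar_comm]
    exact polar_fx_cm hG.nondeg hxiso (hSx hq) (hgs s hs)

/-- the primes of the section group -/
theorem primes_of {U R : Submodule F (ι → F)} (hS : Sec Q (preG eT Y) U R) (hU : finrank F U = 2 * m - 2) (hm : 6 ≤ m)
    (hE : E (res Q U) ≤ secG hS) :
    ∀ e t, Even e → 2 ≤ e → e < 2 * m - 2 → PP (Nat.card F) e t → t ∣ Nat.card (preG eT Y) := by
  intro e t he he2 hen ht
  have h1 := E_dvd hS.nd (by omega) (by rw [hU]; exact ⟨m - 1, by omega⟩) ht he he2 (by rw [hU]; exact hen)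
  exact (h1.trans (Subgroup.card_dvd_of_le hE)).trans hS.card_dvd

/-- (E) PLUS, `m` even, `r_{2m-4}, r_{m-1} ∈ Y` -/
theorem plus_two_a (h : Cx hI X Y p f m (2 * m - 2)) (hm : 6 ≤ m) (hme : Even m) (hP : IsPlus Q)
    {r2 r4 t : ℕ} (hr2 : PP (Nat.card F) (2 * m - 2) r2) (hr4 : PP (Nat.card F) (2 * m - 4) r4)
    (ht : PP (Nat.card F) (m - 1) t) (hX2 : r2 ∣ Nat.card (X.subgroupOf T)) (hY4 : r4 ∣ Nat.card (Y.subgroupOf T))
    (hYt : t ∣ Nat.card (Y.subgroupOf T)) (hLY : Red (preG eT Y) ∨ Ex2 (preG eT Y))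
    (h8 : SLO Q (preG eT Y) (2 * m - 2) 2) (h9 : (2 : F) ≠ 0 → SLO Q (preG eT Y) (2 * m - 1) 3)
    (h10 : (2 : F) = 0 → SLS Q (preG eT Y) (2 * m - 2) 2) :
    (∃ v, ResV hI Y v) ∨ (¬ Red (preG eT X) ∧
      (∀ e t, Even e → 2 ≤ e → e < 2 * m - 2 → PP (Nat.card F) e t → t ∣ Nat.card (preG eT Y)) ∧
      ∃ S : Submodule F (ι → F), S ≠ ⊥ ∧ finrank F S ≤ 2 ∧ preG eT Y ≤ subspaceStabilizer S) := by
  have hn := h.dim
  have hfin : finrank F (ι → F) = 2 * m := h.finrank_V
  have ho1 : Odd (m - 1) := by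
    obtain ⟨k, hk⟩ := hme
    exact ⟨k - 1, by omega⟩
  have hYt' : t ∣ Nat.card (preG eT Y) := hYt.trans card_dvd_preG
  have hY4' : r4 ∣ Nat.card (preG eT Y) := hY4.trans card_dvd_preG
  have hX2' : r2 ∣ Nat.card (preG eT X) := hX2.trans card_dvd_preG
  have htlt := ht.lt (by omega)
  -- `Y` is reducible
  have hred : Red (preG eT Y) := by
    rcases hLY with h1 | ⟨K, hK, hKY⟩
    · exact h1
    · exfalso
      rcases ext_odd hG.nondeg preG_le ht ho1 (by omega) (by omega) hYt' Nat.prime_two hK hKY with h2 | h2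
      · omega
      · exact (Nat.not_even_iff_odd.2 ho1) (even_iff_two_dvd.2 h2)
  obtain ⟨z, hz, hziso, hzr, hz1⟩ := exists_elt (Q := Q) (preG_le (eT := eT) (X := Y)) hr4 (by omega) hY4'
  obtain ⟨y, hy, hyiso, hyr, hy1⟩ := exists_elt (Q := Q) (preG_le (eT := eT) (X := Y)) ht (by omega) hYt'
  obtain ⟨S, hM, hSz⟩ := exists_mx hI hr4 (by omega) (by omega) hz hzr hz1 hred
  have hzcm := (hziso.even_case hG.nondeg (lin_ne_one hz1) hr4 ⟨m - 2, by omega⟩ (by omega)).1
  have hzadd := hziso.finrank_add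
  have hS4 := Submodule.finrank_mono hSz
  have hSy : S ≤ fx (lin y) := hyiso.le_fx ht (inv_of_mem (hM.le hy)) (by omega)
  obtain ⟨hycm, hyP, -⟩ := hyiso.odd_case hG.nondeg (lin_ne_one hy1) ht ho1 (by omega)
  have hyadd := hyiso.finrank_add
  have hyfx : finrank F ↥(fx (lin y)) = 2 := by omega
  have hncy := nondeg_cm hG.nondeg hyiso.iso hyiso.ne0 hyiso.pow
  have hccm := H951.isCompl_fx_cm hyiso.ne0 hyiso.pow
  have hnX := no_both_red h hm hP hr2 ho1 ht hM.ne hM.fix hyiso hy1 hSy hX2'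
  have hS0 : finrank F S ≠ 0 := fun h0 => hM.ne (Submodule.finrank_eq_zero.1 h0)
  have hS2 := Submodule.finrank_mono hSy
  -- the list property for the sections of dimension `2 m - 2`
  have key : ∀ {R : Submodule F (ι → F)} (hS : Sec Q (preG eT Y) (cm (lin y)) R), finrank F R ≤ 1 → (∀ a ∈ R, Q a = 0) →
      cm (lin y) ⊔ R = perp Q S → E (res Q (cm (lin y))) ≤ secG hS := by
    intro R hS hR hR0 hUS
    rcases h8 _ _ hS (by omega) hR hR0 with h1 | ⟨s, hs, hs2, h1⟩ | h1
    · exfalso
      exact hS.irr hG.nondeg hr4 (by omega) (by omega) hz hzr hz1 hUS hM.max (fun u hu huS => by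
        have h2 : u ∈ fx (lin y) ⊓ cm (lin y) := ⟨hSy huS, hu⟩
        rwa [hccm.inf_eq_bot, Submodule.mem_bot] at h2) h1
    · exfalso
      have hs2' : s = 2 := (Nat.prime_dvd_prime_iff_eq hs Nat.prime_two).1 hs2
      subst hs2'
      exact o_not_two_odd hncy (hS.le_O hR0) ht ho1 (by omega) (by omega)
        (hS.dvd ht (by omega) (by omega) (by omega) hYt') h1
    · exact h1
  by_cases hd : finrank F S = 1
  · obtain ⟨v, hv, hv0, rfl⟩ := finrank_one_span hd
    have hvx : v ∈ fx (lin y) := hSy hv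
    by_cases hQv : Q v = 0
    · right
      obtain ⟨hS, hUS⟩ := sec_line hG.nondeg preG_le hyiso hyfx hv0 (polar_self_of_sing hQv) hvx hM.le
      have hR0 : ∀ a ∈ F ∙ v, Q a = 0 := by
        intro a ha
        obtain ⟨c, rfl⟩ := Submodule.mem_span_singleton.1 ha
        rw [QuadraticMap.map_smul, hQv, smul_zero]
      exact ⟨hnX, primes_of hS (by omega) hm (key hS (by omega) hR0 hUS), _, hM.ne, by omega, hM.le⟩
    · left
      refine ⟨v, ?_⟩
      by_cases h2 : (2 : F) = 0
      · have hvv : polar Q v v = 0 := by rw [polar_self', h2, zero_mul]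
        obtain ⟨hS, hUS⟩ := sec_line hG.nondeg preG_le hyiso hyfx hv0 hvv hvx hM.le
        have hSp := sp_of_sls h2 hQv hM (by omega) hUS hS (by omega) (by omega) (h10 h2)
          (hS.irr hG.nondeg hr4 (by omega) (by omega) hz hzr hz1 hUS hM.max (fun u hu huS => by
            have h2 : u ∈ fx (lin y) ⊓ cm (lin y) := ⟨hSy huS, hu⟩
            rwa [hccm.inf_eq_bot, Submodule.mem_bot] at h2))
          (fun s hs hs2 h1 => by
            have hs2' : s = 2 := (Nat.prime_dvd_prime_iff_eq hs Nat.prime_two).1 hs2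
            subst hs2'
            exact sp_not_two_odd h2 hncy hS.polar_eq ht ho1 (by omega) (by omega)
              (hS.dvd ht (by omega) (by omega) (by omega) hYt') h1)
        exact resV_even h2 hQv hM.fix (by omega) hyiso hUS hvx hS hSp
      · obtain ⟨hS, hUS⟩ := sec_perp hG.nondeg (preG_le (eT := eT) (X := Y)) h2 hQv hM.le
        have hU : finrank F (perp Q (F ∙ v)) = 2 * m - 1 := by
          rw [finrank_perp hG.nondeg, hfin, hd]
        refine resV_odd h2 hQv hM.fix (by omega) hS ?_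
        have hb : finrank F (⊥ : Submodule F (ι → F)) = 0 := finrank_bot F _
        rcases h9 h2 _ _ hS hU (by omega) (fun a ha => by
          rw [(Submodule.mem_bot F).1 ha, QuadraticMap.map_zero]) with h1 | ⟨s, hs, hs3, h1⟩ | h1
        · exfalso
          exact hS.irr hG.nondeg hr4 (by omega) (by omega) hz hzr hz1 hUS hM.max (fun u hu huS => by
            obtain ⟨c, rfl⟩ := Submodule.mem_span_singleton.1 huS
            have h3 := hu v (Submodule.mem_span_singleton_self v)
            rw [polar_smul_right, polar_self', smul_eq_mul] at h3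
            have h4 : c = 0 := by
              rcases mul_eq_zero.1 h3 with h5 | h5
              · exact h5
              · rcases mul_eq_zero.1 h5 with h6 | h6
                · exact absurd h6 h2
                · exact absurd h6 hQv
            rw [h4, zero_smul]) h1
        · exfalso
          have hs3' : s = 3 := (Nat.prime_dvd_prime_iff_eq hs Nat.prime_three).1 hs3
          subst hs3'
          have hoy : orderOf y = t := by
            have := Fact.mk ht.prime
            exact orderOf_eq_prime hyr hy1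
          obtain ⟨e, he, -, hoe⟩ := hS.elt (a := 1) ht (by omega) (by omega) (by omega) hy (by rw [pow_one, hoy]) one_ne_zero
          rw [pow_one] at hoe
          have he1 : e ≠ 1 := by
            rintro rfl
            rw [orderOf_one] at hoe
            exact ht.prime.one_lt.ne hoe
          have het : e ^ t = 1 := by rw [← hoe, pow_orderOf_eq_one]
          have heO : e ∈ O (res Q (perp Q (F ∙ v))) := hS.le_O (fun a ha => by
            rw [(Submodule.mem_bot F).1 ha, QuadraticMap.map_zero]) he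
          have hI2 : Iso (res Q (perp Q (F ∙ v))) (e : Module.End F (perp Q (F ∙ v))) t :=
            Iso.mk' ht (by omega) (H522.Rg.coe_pow_one het) (fun w => mem_O.1 heO w)
          have h3 := (hI2.odd_case hS.nd (H522.Rg.coe_ne_one he1) ht ho1 (by omega)).1
          have h4 := hI2.finrank_add
          have h5 := h1.dvd_fx he ht.prime het (by omega)
          have h6 : finrank F (fx (e : Module.End F (perp Q (F ∙ v)))) = 1 := by omega
          rw [h6] at h5
          omega
        · exact h1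
  · right
    have h3 : S = fx (lin y) := Submodule.eq_of_le_of_finrank_eq hSy (by omega)
    have hst : preG eT Y ≤ subspaceStabilizer (fx (lin y)) := by rw [← h3]; exact hM.le
    obtain ⟨hS, hUS⟩ := sec_plane hG.nondeg preG_le hyiso hst
    have hb : finrank F (⊥ : Submodule F (ι → F)) = 0 := finrank_bot F _
    exact ⟨hnX, primes_of hS (by omega) hm (key hS (by omega) (fun a ha => by
      rw [(Submodule.mem_bot F).1 ha, QuadraticMap.map_zero]) (by rw [h3]; exact hUS)), _, hM.ne, by omega, hM.le⟩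

end main

end Cfsg.Agent.H858.Rg
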